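import Groth.Agent.Lib.ModM1.Local
import Groth.Agent.Lib.Twist.Triv
import Groth.Agent.Lib.TensorMod.Invertible
import Mathlib.CategoryTheory.Limits.Preserves.Shapes.Pullbacks

/-!
# Gluing an invertible module with a trivial one
-/

set_option autoImplicit false
set_option linter.style.haveILetI false
set_option backward.isDefEq.respectTransparency false
set_option backward.isDefEq.respectTransparency.types false

universe u

open CategoryTheory CategoryTheory.Limits AlgebraicGeometry TopologicalSpace Opposite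

noncomputable section

namespace Groth.Agent.PicFormalH7

open Groth.Agent

variable {X : Scheme.{u}}

/-- Restriction of sections between the direct images from two opens. -/
def pushMap {U W : X.Opens} (h : W ≤ U) (M : (U : Scheme.{u}).Modules) :
    (Scheme.Modules.pushforward U.ι).obj M ⟶ (Scheme.Modules.pushforward W.ι).obj (M.restrict (X.homOfLE h)) :=
  (Scheme.Modules.pushforward U.ι).map ((Scheme.Modules.restrictAdjunction (X.homOfLE h)).unit.app M) ≫
    (Scheme.Modules.pushforwardComp (X.homOfLE h) U.ι).hom.app _ ≫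
      (Scheme.Modules.pushforwardCongr (X.homOfLE_ι h)).hom.app _

theorem bijective_pushMap {U W : X.Opens} (h : W ≤ U) (M : (U : Scheme.{u}).Modules) (T : X.Opens) (hT : U ⊓ T ≤ W) :
    Function.Bijective ((pushMap h M).app T) := by
  let k := X.homOfLE h
  have hrange : U.ι ⁻¹ᵁ T ≤ k ''ᵁ (k ⁻¹ᵁ (U.ι ⁻¹ᵁ T)) := by
    intro z hz
    have hzW : z.1 ∈ W := hT ⟨z.2, hz⟩
    have hkz : k ⟨z.1, hzW⟩ = z := U.ι.isOpenEmbedding.injective (congr($(X.homOfLE_ι h) ⟨z.1, hzW⟩))
    exact ⟨⟨z.1, hzW⟩, show k ⟨z.1, hzW⟩ ∈ U.ι ⁻¹ᵁ T from hkz.symm ▸ hz, hkz⟩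
  have h1 : Function.Bijective (((Scheme.Modules.restrictAdjunction k).unit.app M).app (U.ι ⁻¹ᵁ T)) := by
    refine ⟨fun a b e => ?_, fun b => ⟨M1.mres M hrange b, ?_⟩⟩
    · have e' := congrArg (M1.mres M hrange) e
      change M1.mres M hrange (M1.mres M (k.image_preimage_le _) a) = M1.mres M hrange (M1.mres M (k.image_preimage_le _) b) at e'
      rwa [M1.mres_mres, M1.mres_mres, M1.mres_id, M1.mres_id] at e'
    · show M1.mres M (k.image_preimage_le _) (M1.mres M hrange b) = b
      rw [M1.mres_mres, M1.mres_id]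
  haveI h2 : IsIso (((Scheme.Modules.pushforwardCongr (X.homOfLE_ι h)).hom.app (M.restrict k)).app T) :=
    Scheme.Modules.Hom.isIso_iff_isIso_app.1 inferInstance T
  exact (((ConcreteCategory.isIso_iff_bijective _).1 h2).comp Function.bijective_id).comp h1

set_option maxHeartbeats 800000 in
/-- An invertible module on an open and a trivial one on another open glue along a trivialisation. -/
theorem exists_glue_triv (U V W : X.Opens) (hU : W ≤ U) (hV : W ≤ V) (hW : U ⊓ V ≤ W)
    (L : (U : Scheme.{u}).Modules) (hL : PicF.IsInvertible L)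
    (e : L.restrict (X.homOfLE hU) ≅ Coh.structureModule (W : Scheme.{u})) :
    ∃ L' : (↑(U ⊔ V) : Scheme.{u}).Modules, PicF.IsInvertible L' ∧
      Nonempty (L'.restrict (X.homOfLE (le_sup_left : U ≤ U ⊔ V)) ≅ L) := by
  let O := Coh.structureModule (V : Scheme.{u})
  let P := (Scheme.Modules.pushforward W.ι).obj (Coh.structureModule (W : Scheme.{u}))
  let a : (Scheme.Modules.pushforward U.ι).obj L ⟶ P :=
    pushMap hU L ≫ (Scheme.Modules.pushforward W.ι).map e.hom
  let b : (Scheme.Modules.pushforward V.ι).obj O ⟶ P :=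
    pushMap hV O ≫ (Scheme.Modules.pushforward W.ι).map (Scheme.Modules.restrictUnitIso (X.homOfLE hV)).hom
  have hiso : ∀ {M N : (W : Scheme.{u}).Modules} (φ : M ⟶ N) [IsIso φ] (T : X.Opens),
      Function.Bijective (((Scheme.Modules.pushforward W.ι).map φ).app T) := fun φ _ T =>
    (ConcreteCategory.isIso_iff_bijective _).1
      (Scheme.Modules.Hom.isIso_iff_isIso_app.1 (inferInstance : IsIso ((Scheme.Modules.pushforward W.ι).map φ)) T)
  have hb' : ∀ T : X.Opens, V ⊓ T ≤ W → Function.Bijective (b.app T) := fun T hT => by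
    simp only [b, Scheme.Modules.Hom.comp_app]
    exact (hiso (Scheme.Modules.restrictUnitIso (X.homOfLE hV)).hom T).comp (bijective_pushMap hV O T hT)
  have ha' : ∀ T : X.Opens, U ⊓ T ≤ W → Function.Bijective (a.app T) := fun T hT => by
    simp only [a, Scheme.Modules.Hom.comp_app]
    exact (hiso e.hom T).comp (bijective_pushMap hU L T hT)
  haveI hb : IsIso ((Scheme.Modules.restrictFunctor U.ι).map b) := Twist.isIso_of_bijective_app _ fun T =>
    hb' (U.ι ''ᵁ T) fun z hz => hW ⟨U.ι_image_le T hz.2, hz.1⟩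
  haveI ha : IsIso ((Scheme.Modules.restrictFunctor V.ι).map a) := Twist.isIso_of_bijective_app _ fun T =>
    ha' (V.ι ''ᵁ T) fun z hz => hW ⟨hz.1, V.ι_image_le T hz.2⟩
  let F := pullback a b
  have hPU := (IsPullback.of_hasPullback a b).map (Scheme.Modules.restrictFunctor U.ι)
  have hPV := (IsPullback.of_hasPullback a b).map (Scheme.Modules.restrictFunctor V.ι)
  haveI : IsIso ((Scheme.Modules.restrictFunctor U.ι).map (pullback.fst a b)) := hPU.isIso_fst_of_isIso
  haveI : IsIso ((Scheme.Modules.restrictFunctor V.ι).map (pullback.snd a b)) := hPV.isIso_snd_of_isIso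
  let eU : F.restrict U.ι ≅ L := asIso ((Scheme.Modules.restrictFunctor U.ι).map (pullback.fst a b)) ≪≫
    asIso ((Scheme.Modules.restrictAdjunction U.ι).counit.app L)
  let eV : F.restrict V.ι ≅ O := asIso ((Scheme.Modules.restrictFunctor V.ι).map (pullback.snd a b)) ≪≫
    asIso ((Scheme.Modules.restrictAdjunction V.ι).counit.app O)
  have hcomp : ∀ {T T' : X.Opens} (h : T ≤ T'),
      (F.restrict T'.ι).restrict (X.homOfLE h) ≅ F.restrict T.ι := fun {T T'} h =>
    ((Scheme.Modules.restrictFunctorComp (X.homOfLE h) T'.ι).app F).symm ≪≫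
      (Scheme.Modules.restrictFunctorCongr (X.homOfLE_ι h)).app F
  refine ⟨F.restrict (U ⊔ V).ι, Twist.isInvertible_restrict F _ fun y => ?_, ⟨hcomp le_sup_left ≪≫ eU⟩⟩
  rcases (show y.1 ∈ U ∨ y.1 ∈ V from y.2) with hy | hy
  · obtain ⟨D, hD, ⟨eD⟩⟩ := hL ⟨y.1, hy⟩
    let j := X.homOfLE (show U.ι ''ᵁ D ≤ U from U.ι_image_le D)
    refine ⟨U.ι ''ᵁ D, ⟨⟨y.1, hy⟩, hD, rfl⟩, ?_⟩
    have hr : Set.range j ⊆ Set.range D.ι := by
      rintro _ ⟨⟨z, w, hw, rfl⟩, rfl⟩
      refine ⟨⟨w, hw⟩, ?_⟩
      exact U.ι.isOpenEmbedding.injective (congr($(X.homOfLE_ι (U.ι_image_le D)) ⟨U.ι w, w, hw, rfl⟩)).symm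
    let l := IsOpenImmersion.lift D.ι j hr
    exact ⟨(hcomp (U.ι_image_le D)).symm ≪≫ (Scheme.Modules.restrictFunctor j).mapIso eU ≪≫
      (Scheme.Modules.restrictFunctorCongr (IsOpenImmersion.lift_fac D.ι j hr).symm).app L ≪≫
      (Scheme.Modules.restrictFunctorComp l D.ι).app L ≪≫
      (Scheme.Modules.restrictFunctor l).mapIso eD ≪≫ Scheme.Modules.restrictUnitIso l⟩
  · exact ⟨V, hy, ⟨eV⟩⟩

end Groth.Agent.PicFormalH7
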