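import Groth.Agent.Lib.PicFormalH7.Levels
import Groth.Agent.Lib.CIPic27.Transfer
import Groth.Prelude.Def_Formal2

/-!
# Trivialisations near a point outside an open
-/

set_option autoImplicit false
set_option linter.style.haveILetI false
set_option backward.isDefEq.respectTransparency false
set_option backward.isDefEq.respectTransparency.types false

universe u

open CategoryTheory CategoryTheory.Limits AlgebraicGeometry TopologicalSpace Opposite IsLocalRing
open scoped TensorProduct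

noncomputable section

namespace Groth.Agent.PicFormalH7

open Groth.Agent Groth.Agent.LocCohLib Groth.Agent.LocCohSheafLib Groth.Agent.InjHullLib Groth.Agent.ParaGr27

variable {A : Type u} [CommRing A]

/-- Maps which are isomorphisms up to powers of an element of the prime. -/
theorem nonempty_tilde_iso (c : Ideal A) (hc : c.FG) {M N : Type u} [AddCommGroup M] [Module A M] [AddCommGroup N]
    [Module A N] (φ : M →ₗ[A] N)
    (h : ∀ a ∈ c, ∃ k : ℕ, (∀ x, φ x = 0 → a ^ k • x = 0) ∧ ∀ y, ∃ x, φ x = a ^ k • y) :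
    Nonempty ((tilde (R := CommRingCat.of A) (ModuleCat.of A M)).restrict (LocCoh.puncturedOpen A c).ι ≅
      (tilde (R := CommRingCat.of A) (ModuleCat.of A N)).restrict (LocCoh.puncturedOpen A c).ι) := by
  classical
  obtain ⟨gs, hgs⟩ := hc
  refine ⟨@asIso _ _ _ _ _ (PunctFree27.isIso_restrict_tilde_map c (M₀ := ModuleCat.of A M)
    (M := ModuleCat.of A N) (ModuleCat.ofHom φ) gs hgs fun a ha => ?_)⟩
  obtain ⟨k, hk, hk'⟩ := h a (hgs ▸ Submodule.subset_span ha)
  refine ⟨(injective_iff_map_eq_zero _).2 fun y hy => ?_, fun y => ?_⟩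
  · induction y using LocalizedModule.induction_on with
    | h x s =>
      rw [LocalizedModule.map_mk, PunctFree27.mk_eq_zero_iff'] at hy
      obtain ⟨⟨_, l, rfl⟩, hl⟩ := hy
      rw [PunctFree27.mk_eq_zero_iff']
      refine ⟨⟨a ^ (k + l), k + l, rfl⟩, ?_⟩
      show a ^ (k + l) • x = 0
      rw [pow_add, mul_smul]
      exact hk _ ((map_smul φ _ _).trans hl)
  · induction y using LocalizedModule.induction_on with
    | h m s =>
      obtain ⟨x, hx⟩ := hk' m
      refine ⟨LocalizedModule.mk x ((⟨a ^ k, k, rfl⟩ : Submonoid.powers a) * s), ?_⟩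
      rw [LocalizedModule.map_mk]
      show LocalizedModule.mk (φ x) _ = _
      rw [hx]
      exact LocalizedModule.mk_cancel_common_left (⟨a ^ k, k, rfl⟩ : Submonoid.powers a) s m

/-- The pullback of the sheaf of a module to an algebra, with the given algebra structure. -/
theorem nonempty_pullback_tilde_iso {S : Type u} [CommRing S] [i : Algebra A S] (N : Type u) [AddCommGroup N]
    [Module A N] :
    Nonempty ((Scheme.Modules.pullback (Spec.map (CommRingCat.ofHom (algebraMap A S)))).obj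
        (tilde (R := CommRingCat.of A) (ModuleCat.of A N)) ≅
      tilde (R := CommRingCat.of S) (ModuleCat.of S (S ⊗[A] N))) := by
  suffices key : ∀ (g : A →+* S) (a : Algebra A S), a = g.toAlgebra →
      Nonempty ((Scheme.Modules.pullback (Spec.map (CommRingCat.ofHom g))).obj
          (tilde (R := CommRingCat.of A) (ModuleCat.of A N)) ≅
        tilde (R := CommRingCat.of S) (ModuleCat.of S (@TensorProduct A _ S N _ _ a.toModule _))) from
    key (algebraMap A S) i (Algebra.algebra_ext _ _ fun r => rfl)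
  intro g a ha
  subst ha
  exact ⟨M1.tildePullbackObjIso (CommRingCat.ofHom g) (ModuleCat.of A N)⟩

variable [IsNoetherianRing A]

/-- A finite module which is torsion near a prime is killed by a power of the prime times an element outside. -/
theorem exists_notMem_smul_eq_zero {Z : Type u} [AddCommGroup Z] [Module A Z] [Module.Finite A Z]
    (q : PrimeSpectrum A) (h : ∀ z : Z, ∃ l : ℕ, ∀ r ∈ q.asIdeal ^ l, ∃ t ∉ q.asIdeal, (t * r) • z = 0) :
    ∃ (s : A) (l : ℕ), s ∉ q.asIdeal ∧ ∀ r ∈ q.asIdeal ^ l, ∀ z : Z, (s * r) • z = 0 := by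
  classical
  obtain ⟨T, hT⟩ := (Module.Finite.fg_top (R := A) (M := Z))
  choose l hl using h
  let L := T.sup l
  obtain ⟨G, hG⟩ : (q.asIdeal ^ L).FG := IsNoetherian.noetherian _
  have hmem : ∀ z ∈ T, ∀ r ∈ G, ∃ t ∉ q.asIdeal, (t * r) • z = 0 := fun z hz r hr =>
    hl z r (Ideal.pow_le_pow_right (Finset.le_sup hz) (hG.le (Submodule.subset_span hr)))
  choose t ht ht0 using hmem
  refine ⟨∏ x ∈ T.attach, ∏ y ∈ G.attach, t x.1 x.2 y.1 y.2, L, fun h => ?_, fun r hr z => ?_⟩
  · obtain ⟨x, -, hx⟩ := (q.isPrime.prod_mem_iff).1 h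
    obtain ⟨y, -, hy⟩ := (q.isPrime.prod_mem_iff).1 hx
    exact ht x.1 x.2 y.1 y.2 hy
  · have key : ∀ y ∈ G, ∀ x ∈ T, ((∏ x ∈ T.attach, ∏ y ∈ G.attach, t x.1 x.2 y.1 y.2) * y) • x = 0 := by
      intro y hy x hx
      rw [← Finset.mul_prod_erase T.attach _ (Finset.mem_attach T ⟨x, hx⟩),
        ← Finset.mul_prod_erase G.attach (fun y => t x hx y.1 y.2) (Finset.mem_attach G ⟨y, hy⟩)]
      refine Eq.trans ?_ (smul_zero ((∏ w ∈ G.attach.erase ⟨y, hy⟩, t x hx w.1 w.2) *
        (∏ w ∈ T.attach.erase ⟨x, hx⟩, ∏ y ∈ G.attach, t w.1 w.2 y.1 y.2) : A))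
      rw [← ht0 x hx y hy, smul_smul]
      congr 1
      ring
    have hrs : r ∈ Submodule.span A (G : Set A) := hG.ge hr
    clear hr
    have hz : z ∈ Submodule.span A (T : Set Z) := hT.symm ▸ Submodule.mem_top
    induction hz using Submodule.span_induction with
    | mem x hx =>
      induction hrs using Submodule.span_induction with
      | mem y hy => exact key y hy x hx
      | zero => rw [mul_zero, zero_smul]
      | add a b _ _ ha hb =>
        rw [mul_add, add_smul, ha, hb, add_zero]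
      | smul c a _ ha =>
        rw [smul_eq_mul, show ∀ w : A, w * (c * a) = c * (w * a) from fun w => by ring, mul_smul,
          ha, smul_zero]
    | zero => rw [smul_zero]
    | add a b _ _ ha hb => rw [smul_add, ha, hb, add_zero]
    | smul c a _ ha => rw [smul_comm, ha, smul_zero]

/-- An invertible module on an open is trivial on a punctured neighbourhood of a point outside with trivial
punctured local Picard group. -/
theorem exists_trivialization (b : Ideal A) (q : PrimeSpectrum A) (hbq : b ≤ q.asIdeal)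
    (hgen : ∀ P : PrimeSpectrum A, P.asIdeal < q.asIdeal → ¬ b ≤ P.asIdeal)
    (hPic : Formal2.PicTrivial (↑(FEt.puncturedSpec (Localization.AtPrime q.asIdeal)) : Scheme.{u}))
    (L : (↑(LocCoh.puncturedOpen A b) : Scheme.{u}).Modules) (hL : PicF.IsInvertible L) :
    ∃ s : A, s ∉ q.asIdeal ∧ ∀ (c : Ideal A) (hc : LocCoh.puncturedOpen A c ≤ LocCoh.puncturedOpen A b),
      c ≤ q.asIdeal → c ≤ (Ideal.span {s}).radical →
      Nonempty (L.restrict ((Spec (CommRingCat.of A)).homOfLE hc) ≅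
        Coh.structureModule (↑(LocCoh.puncturedOpen A c) : Scheme.{u})) := by
  classical
  obtain ⟨N, _, _, ⟨eN⟩⟩ := PunctFree27.exists_model b L (IsNoetherian.noetherian _)
    (M2.isFinLocFree_of_isInvertible hL)
  haveI : Module.Finite A N := inferInstance
  let T := powTors q.asIdeal (N : Type u)
  let N₁ := (N : Type u) ⧸ T
  haveI : Module.Finite A N₁ := inferInstance
  obtain ⟨kT, hkT⟩ : ∃ k : ℕ, ∀ x ∈ T, ∀ r ∈ q.asIdeal ^ k, r • x = 0 := by
    obtain ⟨G, hG⟩ : T.FG := IsNoetherian.noetherian _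
    have hG' : ∀ g ∈ G, ∃ n, ∀ r ∈ q.asIdeal ^ n, r • g = 0 := fun g hg =>
      mem_powTors_iff.1 (hG ▸ Submodule.subset_span hg : g ∈ T)
    choose n hn using hG'
    refine ⟨G.attach.sup fun g => n g.1 g.2, fun x hx r hr => ?_⟩
    rw [← hG] at hx
    induction hx using Submodule.span_induction with
    | mem g hg => exact hn g hg r (Ideal.pow_le_pow_right (Finset.le_sup (f := fun g => n g.1 g.2) (Finset.mem_attach G ⟨g, hg⟩)) hr)
    | zero => rw [smul_zero]
    | add x y _ _ hx hy => rw [smul_add, hx, hy, add_zero]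
    | smul a x _ hx => rw [smul_comm, hx, smul_zero]
  have hNN₁ : ∀ c : Ideal A, c ≤ q.asIdeal → ∀ a ∈ c, ∃ k : ℕ, (∀ x : (N : Type u), T.mkQ x = 0 → a ^ k • x = 0) ∧
      ∀ y : N₁, ∃ x, T.mkQ x = a ^ k • y := fun c hcq a ha =>
    ⟨kT, fun x hx => hkT x ((Submodule.Quotient.mk_eq_zero T).1 hx) _ (Ideal.pow_mem_pow (hcq ha) kT),
      fun y => T.mkQ_surjective _⟩
  have htors : ∀ y : N₁, (∃ n : ℕ, ∀ r ∈ q.asIdeal ^ n, r • y = 0) → y = 0 := by
    intro y ⟨n, hn⟩
    obtain ⟨x, rfl⟩ := T.mkQ_surjective y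
    refine (Submodule.Quotient.mk_eq_zero T).2 (mem_powTors_iff.2 ⟨n + kT, fun r hr => ?_⟩)
    rw [pow_add] at hr
    refine Submodule.mul_induction_on hr (fun u hu v hv => ?_) fun u v hu hv => by rw [add_smul, hu, hv, add_zero]
    rw [mul_comm, mul_smul]
    exact hkT _ ((Submodule.Quotient.mk_eq_zero T).1 ((Submodule.Quotient.mk_smul T u x).trans (hn u hu))) v hv
  let S := Localization.AtPrime q.asIdeal
  let j : A →+* S := algebraMap A S
  have hmS : maximalIdeal S = q.asIdeal.map j := Localization.AtPrime.map_eq_maximalIdeal.symm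
  let P := S ⊗[A] N₁
  let ι : N₁ →ₗ[A] P := TensorProduct.mk A S N₁ 1
  haveI hιloc : IsLocalizedModule q.asIdeal.primeCompl ι := CIPic27.isLocalizedModule_one_tmul q
  have hPtors : ∀ z : P, (∃ n : ℕ, ∀ r ∈ maximalIdeal S ^ n, r • z = 0) → z = 0 := by
    intro z ⟨n, hn⟩
    obtain ⟨⟨y, t⟩, hyt⟩ := IsLocalizedModule.surj q.asIdeal.primeCompl ι z
    have hy : ∀ r ∈ q.asIdeal ^ n, ∃ w ∉ q.asIdeal, (w * r) • y = 0 := fun r hr => by
      have h0 : ι (r • y) = 0 := by
        rw [map_smul, ← hyt, Submonoid.smul_def, smul_comm, ← algebraMap_smul S r z,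
          hn (j r) (by rw [hmS, ← Ideal.map_pow]; exact Ideal.mem_map_of_mem j hr), smul_zero]
      obtain ⟨w, hw⟩ := IsLocalizedModule.exists_of_eq (S := q.asIdeal.primeCompl) (f := ι)
        (x₁ := r • y) (x₂ := 0) (h0.trans (map_zero _).symm)
      exact ⟨w, w.2, by rw [mul_smul]; exact hw.trans (smul_zero _)⟩
    obtain ⟨G, hG⟩ : (q.asIdeal ^ n).FG := IsNoetherian.noetherian _
    choose w hw hw0 using fun r (hr : r ∈ G) => hy r (hG.le (Submodule.subset_span hr))
    have h1 : (∏ r ∈ G.attach, w r.1 r.2) • y = 0 := htors _ ⟨n, fun r hr => by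
      rw [← hG] at hr
      induction hr using Submodule.span_induction with
      | mem r hr =>
        rw [← Finset.mul_prod_erase G.attach _ (Finset.mem_attach G ⟨r, hr⟩), smul_smul]
        refine Eq.trans ?_ (smul_zero (∏ r ∈ G.attach.erase ⟨r, hr⟩, w r.1 r.2 : A))
        rw [← hw0 r hr, smul_smul]
        congr 1
        ring
      | zero => rw [zero_smul]
      | add a b _ _ ha hb => rw [add_smul, ha, hb, add_zero]
      | smul a b _ hb => rw [smul_eq_mul, mul_smul, hb, smul_zero]⟩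
    have hprod : (∏ r ∈ G.attach, w r.1 r.2) ∈ q.asIdeal.primeCompl := fun h => by
      obtain ⟨r, -, hr⟩ := (q.isPrime.prod_mem_iff).1 h
      exact hw r.1 r.2 hr
    have h2 : IsUnit ((algebraMap A (Module.End A P)) ((⟨_, hprod⟩ * t : q.asIdeal.primeCompl) : A)) :=
      IsLocalizedModule.map_units ι _
    refine ((Module.End.isUnit_iff _).1 h2).injective ?_
    show ((∏ r ∈ G.attach, w r.1 r.2) * (t : A)) • z = ((∏ r ∈ G.attach, w r.1 r.2) * (t : A)) • (0 : P)
    rw [smul_zero, mul_smul, ← Submonoid.smul_def, hyt, ← map_smul, h1, map_zero]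
  -- the pullback to the punctured spectrum of the local ring
  let U₁ := LocCoh.puncturedOpen A b
  obtain ⟨e₁⟩ := nonempty_tilde_iso b (IsNoetherian.noetherian _) T.mkQ (hNN₁ b hbq)
  let f := Spec.map (CommRingCat.ofHom j)
  have hV : f ⁻¹ᵁ U₁ = LocCoh.puncturedOpen S (maximalIdeal S) := by
    ext Q
    show ¬ (b : Set A) ⊆ Ideal.comap j Q.asIdeal ↔ ¬ (maximalIdeal S : Set S) ⊆ Q.asIdeal
    constructor
    · intro h hQ
      exact h fun a ha => hQ (hmS ▸ Ideal.mem_map_of_mem j (hbq ha))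
    · intro hQ
      refine hgen ⟨Q.asIdeal.comap j, Ideal.IsPrime.comap j⟩ (lt_of_le_of_ne ?_ fun h => hQ ?_)
      · exact (Ideal.comap_mono (IsLocalRing.le_maximalIdeal Q.isPrime.ne_top)).trans
          (Localization.AtPrime.under_maximalIdeal).le
      · exact hmS.le.trans (Ideal.map_le_iff_le_comap.2 h.ge)
  let P' : ModuleCat.{u} S := ModuleCat.of S (TensorProduct A S N₁)
  have heP : ((tilde (R := CommRingCat.of S) (ModuleCat.of S P')).restrict (f ⁻¹ᵁ U₁).ι) ≅
      (Scheme.Modules.pullback (f ∣_ U₁)).obj L :=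
    ((Scheme.Modules.restrictFunctor (f ⁻¹ᵁ U₁).ι).mapIso
        (nonempty_pullback_tilde_iso (S := S) N₁).some).symm ≪≫
      Twist.pullbackRestrictIso f _ U₁ ≪≫ (Scheme.Modules.pullback (f ∣_ U₁)).mapIso (e₁.symm ≪≫ eN)
  have hinv : PicF.IsInvertible ((tilde (R := CommRingCat.of S) (ModuleCat.of S P')).restrict (f ⁻¹ᵁ U₁).ι) :=
    Twist.isInvertible_of_iso heP.symm (Twist.isInvertible_pullback _ hL)
  rw [hV] at hinv
  rw [← puncturedOpen_maximalIdeal] at hPic
  obtain ⟨eT⟩ := hPic _ hinv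
  let e : (tilde (R := CommRingCat.of S) (ModuleCat.of S P)).restrict (LocCoh.puncturedOpen S (maximalIdeal S)).ι ≅
      (tilde (R := CommRingCat.of S) (ModuleCat.of S S)).restrict (LocCoh.puncturedOpen S (maximalIdeal S)).ι :=
    eT ≪≫ (Scheme.Modules.restrictUnitIso _).symm ≪≫
      (Scheme.Modules.restrictFunctor _).mapIso (tildeSelf (R := CommRingCat.of S)).symm
  let mS := maximalIdeal S
  let W₀ := LocCoh.puncturedOpen S mS
  let E : Sec P W₀ ≃ₗ[S] Sec S W₀ := (secTopH mS P).symm.trans ((CurveCoh17.hequiv S e 0).trans (secTopH mS S))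
  let σ := E.symm (toS S W₀ 1)
  obtain ⟨n, hn⟩ := exists_pow_smul_eq_toS mS σ
  choose u hu using hn
  have hinj : Function.Injective (toS P W₀) := (injective_iff_map_eq_zero _).2 fun z hz =>
    hPtors z (mem_powTors_iff.1 ((toS_eq_zero_iff mS z).1 hz))
  let ψ : ↥(mS ^ n) →ₗ[S] P :=
    { toFun := fun r => u r.1 r.2
      map_add' := fun r r' => hinj (by rw [map_add, hu, hu, hu, Submodule.coe_add, add_smul])
      map_smul' := fun a r => hinj (by
        rw [RingHom.id_apply, map_smul, hu, hu, Submodule.coe_smul, smul_eq_mul, mul_smul]) }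
  have hjn : ∀ a ∈ q.asIdeal ^ n, j a ∈ mS ^ n := fun a ha => by
    rw [show mS = q.asIdeal.map j from hmS, ← Ideal.map_pow]
    exact Ideal.mem_map_of_mem j ha
  let K : Ideal A := q.asIdeal ^ n
  haveI : Module.FinitePresentation A K := Module.finitePresentation_of_finite A K
  let φ₁ : ↥K →ₗ[A] P :=
    { toFun := fun a => ψ ⟨j a.1, hjn a.1 a.2⟩
      map_add' := fun a a' => by
        rw [← map_add]
        exact congrArg ψ (Subtype.ext (map_add j _ _))
      map_smul' := fun c a => by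
        rw [RingHom.id_apply, ← algebraMap_smul S c (ψ _), ← map_smul]
        exact congrArg ψ (Subtype.ext (map_mul j c a.1)) }
  obtain ⟨φ, ⟨s₀, hs₀⟩, hφ⟩ := Module.FinitePresentation.exists_lift_of_isLocalizedModule
    q.asIdeal.primeCompl ι φ₁
  have hφ' : ∀ a : ↥K, ι (φ a) = s₀ • φ₁ a := fun a => LinearMap.congr_fun hφ a
  -- kernel
  have hker : ∀ x : LinearMap.ker φ, ∃ l : ℕ, ∀ r ∈ q.asIdeal ^ l, ∃ t ∉ q.asIdeal, (t * r) • x = 0 := by
    intro x
    have h0 : φ₁ x.1 = 0 := by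
      refine ((Module.End.isUnit_iff _).1 (IsLocalizedModule.map_units ι ⟨s₀, hs₀⟩)).injective ?_
      show s₀ • φ₁ x.1 = s₀ • (0 : P)
      rw [smul_zero, ← hφ', show φ x.1 = 0 from x.2, map_zero]
    have h1 : j (x.1 : A) • σ = 0 := by
      rw [← hu (j (x.1 : A)) (hjn _ x.1.2), show u (j (x.1 : A)) (hjn _ x.1.2) = 0 from h0, map_zero]
    have h2 : toS S W₀ (j (x.1 : A)) = 0 := by
      have h3 : toS S W₀ (j (x.1 : A)) = j (x.1 : A) • E σ := by
        rw [LinearEquiv.apply_symm_apply, ← map_smul, smul_eq_mul, mul_one]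
      rw [h3, ← map_smul, h1, map_zero]
    obtain ⟨l, hl⟩ := mem_powTors_iff.1 ((toS_eq_zero_iff mS _).1 h2)
    refine ⟨l, fun r hr => ?_⟩
    have h4 : algebraMap A S (r * x.1.1) = 0 := by
      rw [map_mul]
      exact hl (j r) (by rw [show mS = q.asIdeal.map j from hmS, ← Ideal.map_pow]; exact Ideal.mem_map_of_mem j hr)
    obtain ⟨t, ht⟩ := (IsLocalization.map_eq_zero_iff q.asIdeal.primeCompl S _).1 h4
    exact ⟨t, t.2, Subtype.ext (Subtype.ext (by
      show (t.1 * r) • x.1.1 = 0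
      rw [smul_eq_mul, mul_assoc, ht]))⟩
  -- cokernel
  have hcok : ∀ z : N₁ ⧸ LinearMap.range φ, ∃ l : ℕ, ∀ r ∈ q.asIdeal ^ l, ∃ t ∉ q.asIdeal, (t * r) • z = 0 := by
    intro z
    obtain ⟨y, rfl⟩ := Submodule.Quotient.mk_surjective _ z
    obtain ⟨l, hl⟩ := exists_pow_smul_eq_toS mS (E (toS P W₀ (ι y)))
    refine ⟨n + l, fun r hr => ?_⟩
    rw [pow_add] at hr
    refine Submodule.mul_induction_on hr (fun a ha a' ha' => ?_) fun a a' ⟨t, ht, h⟩ ⟨t', ht', h'⟩ =>
      ⟨t * t', fun hm => (q.isPrime.mem_or_mem hm).elim ht ht', by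
        rw [mul_add, add_smul, show t * t' * a = t' * (t * a) by ring, show t * t' * a' = t * (t' * a') by ring,
          mul_smul, h, smul_zero, mul_smul, h', smul_zero, add_zero]⟩
    obtain ⟨c, hc⟩ := hl (j a') (by rw [show mS = q.asIdeal.map j from hmS, ← Ideal.map_pow]; exact Ideal.mem_map_of_mem j ha')
    have h1 : toS P W₀ (j a' • ι y) = c • σ := by
      refine E.injective ?_
      rw [map_smul, map_smul, map_smul, LinearEquiv.apply_symm_apply, ← map_smul (toS S W₀), smul_eq_mul, mul_one, hc]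
    have h2 : (a * a') • ι y = c • φ₁ ⟨a, ha⟩ := by
      refine hinj ?_
      rw [mul_smul, ← algebraMap_smul S a' (ι y), ← algebraMap_smul S a, map_smul, h1, map_smul,
        show toS P W₀ (φ₁ ⟨a, ha⟩) = j a • σ from hu _ _, smul_comm]
    obtain ⟨⟨a'', t⟩, hat⟩ := IsLocalization.surj q.asIdeal.primeCompl c
    have h3 : ι (((t : A) * s₀ * (a * a')) • y) = ι (φ (a'' • ⟨a, ha⟩)) := by
      rw [map_smul, hφ', map_smul, mul_smul, h2, mul_comm (t : A) s₀, mul_smul, ← algebraMap_smul S (t : A),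
        smul_smul, mul_comm (algebraMap A S t) c, hat, algebraMap_smul]
    obtain ⟨t', ht'⟩ := IsLocalizedModule.exists_of_eq (S := q.asIdeal.primeCompl) (f := ι) h3
    refine ⟨(t' : A) * (t * s₀), fun hm => (q.isPrime.mem_or_mem hm).elim t'.2 fun hm =>
      (q.isPrime.mem_or_mem hm).elim t.2 hs₀, ?_⟩
    rw [← Submodule.Quotient.mk_smul, Submodule.Quotient.mk_eq_zero, mul_assoc, mul_smul, ← Submonoid.smul_def,
      ht', Submonoid.smul_def, ← map_smul]
    exact LinearMap.mem_range_self _ _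
  obtain ⟨s₁, l₁, hs₁, h₁⟩ := exists_notMem_smul_eq_zero (Z := ↥(LinearMap.ker φ)) q hker
  obtain ⟨s₂, l₂, hs₂, h₂⟩ := exists_notMem_smul_eq_zero q hcok
  refine ⟨s₁ * s₂, fun h => (q.isPrime.mem_or_mem h).elim hs₁ hs₂, fun c hc hcq hcs => ?_⟩
  have hfg : c.FG := IsNoetherian.noetherian _
  obtain ⟨eKA⟩ := nonempty_tilde_iso c hfg K.subtype fun a ha => ⟨n, fun x hx => by
    rw [show x = 0 from Subtype.ext hx, smul_zero], fun y => ⟨⟨a ^ n • y, Ideal.mul_mem_right _ _
      (Ideal.pow_mem_pow (hcq ha) n)⟩, rfl⟩⟩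
  obtain ⟨eKN⟩ := nonempty_tilde_iso c hfg φ fun a ha => by
    obtain ⟨k, hk⟩ := hcs ha
    obtain ⟨w, hw⟩ := Ideal.mem_span_singleton'.1 hk
    refine ⟨k + l₁ + l₂, fun x hx => ?_, fun y => ?_⟩
    · have h := congrArg Subtype.val (h₁ _ (Ideal.pow_mem_pow (hcq ha) l₁) ⟨x, hx⟩)
      have h' : a ^ (k + l₁ + l₂) = w * s₂ * a ^ l₂ * (s₁ * a ^ l₁) := by
        rw [pow_add, pow_add, ← hw]; ring
      rw [h', mul_smul]
      exact (congrArg _ h).trans (smul_zero _)
    · have h' : a ^ (k + l₁ + l₂) = w * s₁ * a ^ l₁ * (s₂ * a ^ l₂) := by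
        rw [pow_add, pow_add, ← hw]; ring
      have h := h₂ _ (Ideal.pow_mem_pow (hcq ha) l₂) (Submodule.Quotient.mk y)
      rw [← Submodule.Quotient.mk_smul, Submodule.Quotient.mk_eq_zero] at h
      obtain ⟨x, hx⟩ := h
      exact ⟨(w * s₁ * a ^ l₁) • x, by rw [map_smul, hx, h']; simp only [mul_smul]⟩
  obtain ⟨eNN₁⟩ := nonempty_tilde_iso c hfg T.mkQ (hNN₁ c hcq)
  exact ⟨(Scheme.Modules.restrictFunctor _).mapIso eN.symm ≪≫
    ((Scheme.Modules.restrictFunctorComp ((Spec (CommRingCat.of A)).homOfLE hc) (LocCoh.puncturedOpen A b).ι).app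
      (tilde (R := CommRingCat.of A) N)).symm ≪≫
    (Scheme.Modules.restrictFunctorCongr (Scheme.homOfLE_ι _ hc)).app _ ≪≫ eNN₁ ≪≫ eKN.symm ≪≫ eKA ≪≫
    (Scheme.Modules.restrictFunctor _).mapIso (tildeSelf (R := CommRingCat.of A)) ≪≫ Scheme.Modules.restrictUnitIso _⟩

end Groth.Agent.PicFormalH7
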