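import Groth.Agent.Lib.PicFormalH7.Levels

/-!
# Invertible modules on a hypersurface of an open complement extend to a neighbourhood
-/

set_option autoImplicit false
set_option linter.style.haveILetI false
set_option backward.isDefEq.respectTransparency false
set_option backward.isDefEq.respectTransparency.types false

universe u

open CategoryTheory CategoryTheory.Limits AlgebraicGeometry TopologicalSpace Opposite

noncomputable section

namespace Groth.Agent.PicFormalH7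

open Groth.Agent Groth.Agent.GExistH7 Groth.Agent.FormalH7
open Groth.Agent.ComplFormalH7 (PU)

variable {A : Type u} [CommRing A] [IsNoetherianRing A] (I : Ideal A) {f : A} [IsAdicComplete (Ideal.span {f}) A]
  (hf : f ∈ nonZeroDivisors A)
  (h₁ : Module.Finite A (LocCoh.H I 1 (A ⧸ Ideal.span {f})))
  (h₂ : Module.Finite A (LocCoh.H I 2 (A ⧸ Ideal.span {f})))
  (h₃ : Subsingleton (LocCoh.H I 3 (A ⧸ Ideal.span {f})))
include hf h₁ h₂ h₃

/-- A coherent module on the open complement with a given invertible restriction to the hypersurface. -/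
theorem exists_coh (L₀ : (↑(Formal2.specQuotMap A f ⁻¹ᵁ LocCoh.puncturedOpen A I) : Scheme.{u}).Modules)
    (hL₀ : PicF.IsInvertible L₀) :
    ∃ F : (PU I).Modules, Coh.IsCoh F ∧
      (∀ x : PU I, x ∈ ((idl I (Ideal.span {f})).support : Set (PU I)) →
        ∃ D : (PU I).Opens, x ∈ D ∧ Nonempty (F.restrict D.ι ≅ Coh.structureModule (D : Scheme.{u}))) ∧
      Nonempty ((Scheme.Modules.pullback (qSpec I (Ideal.span {f}))).obj F ≅ L₀) := by
  let J := Ideal.span {f}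
  let X := PU I
  let 𝓘 := idl I J
  have hform : (FSch.completionAlong X 𝓘).IsFormal := (FormalH7.isFormal_isAdic_completionAlong X 𝓘).1
  haveI : IsClosedImmersion (FSch.completionToX X 𝓘 0) :=
    inferInstanceAs (IsClosedImmersion (𝓘 ^ (0 + 1)).subschemeι)
  have hker : ∀ K : Ideal A, K = J ^ (0 + 1) → (qSpec I K).ker = 𝓘 ^ (0 + 1) := by
    rintro _ rfl
    exact ker_qSpec_pow I J 0
  obtain ⟨t, ht⟩ := exists_iso_of_ker (FSch.completionToX X 𝓘 0) (qSpec I J)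
    ((Scheme.IdealSheafData.ker_subschemeι _).trans (hker J (by rw [zero_add, pow_one])).symm)
  obtain ⟨𝔐, hinv, h0⟩ := exists_modSys I hf h₃ ((Scheme.Modules.pullback t.hom).obj L₀)
    (PicLoc.isInvertible_pullback t.hom hL₀)
  have hM : 𝔐.IsCoh := fun n => CubeField.isCoh_of_isInvertible (hinv n)
  have hS := GExistH7.isSys_gSys J 𝓘 rfl 𝔐 hM
  obtain ⟨F, χ, hF, hχ, hc⟩ := ComplFormalH7.algebraizable_of_locallyFree hf (GExistH7.gSys 𝓘 𝔐) hS
    (fun n => isFinLocFreeMod_push I n (𝔐.F n) (hinv n)) h₁ h₂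
  obtain ⟨e⟩ := GExistH7.nonempty_iso_complMod J 𝓘 rfl hform 𝔐 hF χ hχ fun n => by
    rw [← GExistH7.gm_ofOpSequence (GExistH7.trG 𝓘 𝔐) n]; exact hc n
  have el : ∀ n, (Scheme.Modules.pullback (FSch.completionToX X 𝓘 n)).obj F ≅ 𝔐.F n := fun n =>
    ⟨e.inv.app n, e.hom.app n, congrArg (fun φ : FSch.complMod 𝓘 F ⟶ FSch.complMod 𝓘 F => φ.app n) e.inv_hom_id,
      congrArg (fun φ : 𝔐 ⟶ 𝔐 => φ.app n) e.hom_inv_id⟩
  refine ⟨F, hF, fun x hx => ?_, ?_⟩
  · obtain ⟨hfree, hr⟩ := FormalH7.free_stalk_of_thickenings hF.1 hF.2 𝓘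
      (fun n => (M2.isInvertible_iff_isFinLocFreeOfRank_one _).1 (Twist.isInvertible_of_iso (el n).symm (hinv n))) hx
    obtain ⟨D, r, hxD, ⟨eD⟩⟩ := M1.exists_freeMod_of_free_stalk (M1.isFP_of_isCoh hF) x (hx := hfree)
    obtain rfl := FormalH7.rank_eq_of_iso eD hxD hr
    exact ⟨D, hxD, ⟨eD ≪≫ M2.freeModOneIso _⟩⟩
  · have ht' : t.inv ≫ FSch.completionToX X 𝓘 0 = qSpec I J := by rw [← ht, Iso.inv_hom_id_assoc]
    exact ⟨(Scheme.Modules.pullbackCongr ht'.symm).app F ≪≫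
      ((Scheme.Modules.pullbackComp t.inv (FSch.completionToX X 𝓘 0)).app F).symm ≪≫
      (Scheme.Modules.pullback t.inv).mapIso (el 0 ≪≫ eqToIso h0) ≪≫
      (Scheme.Modules.pullbackComp t.inv t.hom).app L₀ ≪≫ (Scheme.Modules.pullbackCongr t.inv_hom_id).app L₀ ≪≫
      (Scheme.Modules.pullbackId _).app L₀⟩

/-- Invertible modules on the hypersurface extend to a neighbourhood. -/
theorem exists_nhd (L₀ : (↑(Formal2.specQuotMap A f ⁻¹ᵁ LocCoh.puncturedOpen A I) : Scheme.{u}).Modules)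
    (hL₀ : PicF.IsInvertible L₀) :
    ∃ (U' : (Spec (CommRingCat.of A)).Opens) (_ : U' ≤ LocCoh.puncturedOpen A I)
      (h : Formal2.specQuotMap A f ⁻¹ᵁ LocCoh.puncturedOpen A I ≤ Formal2.specQuotMap A f ⁻¹ᵁ U')
      (L : (↑U' : Scheme.{u}).Modules), PicF.IsInvertible L ∧
        Nonempty ((Scheme.Modules.pullback ((Formal2.specQuotMap A f).resLE U' _ h)).obj L ≅ L₀) := by
  obtain ⟨F, hF, hloc, ⟨e⟩⟩ := exists_coh I hf h₁ h₂ h₃ L₀ hL₀
  let U := LocCoh.puncturedOpen A I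
  let D : Set (PU I) := {x | ∃ D : (PU I).Opens, x ∈ D ∧ Nonempty (F.restrict D.ι ≅ Coh.structureModule (D : Scheme.{u}))}
  have hDo : IsOpen D := isOpen_iff_forall_mem_open.2 fun x ⟨V, hxV, hV⟩ => ⟨V, fun y hy => ⟨V, hy, hV⟩, V.2, hxV⟩
  let U' : (Spec (CommRingCat.of A)).Opens := U.ι ''ᵁ ⟨D, hDo⟩
  have hU' : U' ≤ U := U.ι_image_le _
  have hle : Formal2.specQuotMap A f ⁻¹ᵁ U ≤ Formal2.specQuotMap A f ⁻¹ᵁ U' := by
    intro p hp
    refine ⟨⟨Formal2.specQuotMap A f p, hp⟩, hloc _ ?_, rfl⟩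
    rw [Scheme.IdealSheafData.support_comap, Closeds.coe_preimage, Set.mem_preimage, FormalH7.support_idealSpec]
    intro a ha
    show Ideal.Quotient.mk (Ideal.span {f}) a ∈ p.asIdeal
    rw [Ideal.Quotient.eq_zero_iff_mem.2 ha]
    exact zero_mem _
  let j : (↑U' : Scheme.{u}) ⟶ PU I := (Spec (CommRingCat.of A)).homOfLE hU'
  have hj : (Formal2.specQuotMap A f).resLE U' _ hle ≫ j = qSpec I (Ideal.span {f}) := by
    rw [← cancel_mono U.ι, Category.assoc, Scheme.homOfLE_ι, Scheme.Hom.resLE_comp_ι]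
    exact (morphismRestrict_ι _ _).symm
  refine ⟨U', hU', hle, F.restrict j, Twist.isInvertible_restrict F j fun y => ?_, ⟨?_⟩⟩
  · have hy : y.1 ∈ U' := y.2
    obtain ⟨z, ⟨V, hzV, hV⟩, hz⟩ := hy
    refine ⟨V, ?_, hV⟩
    have hzy : z = j y := U.ι.isOpenEmbedding.injective (hz.trans (congr($(Scheme.homOfLE_ι _ hU') y)).symm)
    exact hzy ▸ hzV
  · exact (Scheme.Modules.pullback _).mapIso ((Scheme.Modules.restrictFunctorIsoPullback j).app F) ≪≫
      (Scheme.Modules.pullbackComp _ j).app F ≪≫ (Scheme.Modules.pullbackCongr hj).app F ≪≫ e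

end Groth.Agent.PicFormalH7
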