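import Groth.Agent.Lib.PicFormalH7.Glue
import Groth.Agent.Lib.PicFormalH7.Point
import Groth.Agent.Lib.PicFormalH7.Surjective
import Groth.Agent.Lib.NFlatFormalH7.Normal
import Mathlib.Topology.NoetherianSpace

/-!
# Extending invertible modules from a neighbourhood of a hypersurface
-/

set_option autoImplicit false
set_option linter.style.haveILetI false
set_option backward.isDefEq.respectTransparency false
set_option backward.isDefEq.respectTransparency.types false

universe u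

open CategoryTheory CategoryTheory.Limits AlgebraicGeometry TopologicalSpace Opposite IsLocalRing

noncomputable section

namespace Groth.Agent.PicFormalH7

open Groth.Agent

/-- Restricting twice. -/
theorem nonempty_restrict_trans {X : Scheme.{u}} {U V W : X.Opens} (h₁ : U ≤ V) (h₂ : V ≤ W)
    (M : (W : Scheme.{u}).Modules) {N : (V : Scheme.{u}).Modules} {L : (U : Scheme.{u}).Modules}
    (e₂ : M.restrict (X.homOfLE h₂) ≅ N) (e₁ : N.restrict (X.homOfLE h₁) ≅ L) (h₃ : U ≤ W) :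
    Nonempty (M.restrict (X.homOfLE h₃) ≅ L) :=
  ⟨((Scheme.Modules.restrictFunctorCongr (X.homOfLE_homOfLE h₁ h₂).symm).app M :
      M.restrict (X.homOfLE h₃) ≅ M.restrict (X.homOfLE h₁ ≫ X.homOfLE h₂)) ≪≫
    ((Scheme.Modules.restrictFunctorComp (X.homOfLE h₁) (X.homOfLE h₂)).app M :
      M.restrict (X.homOfLE h₁ ≫ X.homOfLE h₂) ≅ (M.restrict (X.homOfLE h₂)).restrict (X.homOfLE h₁)) ≪≫
    ((Scheme.Modules.restrictFunctor (X.homOfLE h₁)).mapIso e₂ :
      (M.restrict (X.homOfLE h₂)).restrict (X.homOfLE h₁) ≅ N.restrict (X.homOfLE h₁)) ≪≫ e₁⟩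

variable {A : Type u} [CommRing A] [IsNoetherianRing A] [IsLocalRing A] {f : A}

/-- Invertible modules extend from neighbourhoods of the hypersurface to the punctured spectrum. -/
theorem exists_extension (hf : f ∈ maximalIdeal A)
    (h₅ : ∀ (q : Ideal A) [q.IsPrime], f ∉ q → (∀ (q' : Ideal A), q'.IsPrime → q ≤ q' → f ∉ q' → q' = q) →
      Formal2.PicTrivial (↑(FEt.puncturedSpec (Localization.AtPrime q)) : Scheme.{u}))
    (U' : (Spec (CommRingCat.of A)).Opens) (hU' : U' ≤ LocCoh.puncturedOpen A (maximalIdeal A))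
    (hcov : ∀ p : PrimeSpectrum A, p ∈ LocCoh.puncturedOpen A (maximalIdeal A) → f ∈ p.asIdeal → p ∈ U')
    (L : (↑U' : Scheme.{u}).Modules) (hL : PicF.IsInvertible L) :
    ∃ M : (↑(LocCoh.puncturedOpen A (maximalIdeal A)) : Scheme.{u}).Modules, PicF.IsInvertible M ∧
      Nonempty (M.restrict ((Spec (CommRingCat.of A)).homOfLE hU') ≅ L) := by
  classical
  let X := Spec (CommRingCat.of A)
  let U := LocCoh.puncturedOpen A (maximalIdeal A)
  suffices key : ∀ U₁ : X.Opens, ∀ (h : U' ≤ U₁), U₁ ≤ U →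
      (∃ M : (↑U₁ : Scheme.{u}).Modules, PicF.IsInvertible M ∧ Nonempty (M.restrict (X.homOfLE h) ≅ L)) →
      ∃ M : (↑U : Scheme.{u}).Modules, PicF.IsInvertible M ∧ Nonempty (M.restrict (X.homOfLE hU') ≅ L) from
    key U' le_rfl hU' ⟨L, hL, ⟨(Scheme.Modules.restrictFunctorCongr (X.homOfLE_rfl U')).app L ≪≫
      Scheme.Modules.restrictFunctorId.app L⟩⟩
  haveI : NoetherianSpace X := inferInstanceAs (NoetherianSpace (PrimeSpectrum A))
  haveI : WellFoundedGT X.Opens := ‹NoetherianSpace X›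
  intro U₁
  induction U₁ using WellFoundedGT.induction with
  | _ U₁ ih =>
    intro h hle ⟨M, hM, ⟨eM⟩⟩
    by_cases hU : U ≤ U₁
    · obtain rfl : U₁ = U := le_antisymm hle hU
      exact ⟨M, hM, ⟨eM⟩⟩
    obtain ⟨q₀, hqU, hqU₁⟩ := Set.not_subset.1 hU
    obtain ⟨q, rfl⟩ : ∃ q : PrimeSpectrum A, (q : X) = q₀ := ⟨q₀, rfl⟩
    let b : Ideal A := PrimeSpectrum.vanishingIdeal ((U₁.carrier : Set (PrimeSpectrum A)))ᶜ
    have hb : U₁ = LocCoh.puncturedOpen A b := by
      rw [← NFlatFormalH7.compl_eq_puncturedOpen _ U₁.2.isClosed_compl]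
      exact Opens.ext (compl_compl _).symm
    -- the point is maximal among the primes not containing `f`
    have hstab : ∀ Q : PrimeSpectrum A, q ≤ Q → Q ∈ U → f ∉ Q.asIdeal := fun Q hQ hQU hfQ =>
      hqU₁ (((PrimeSpectrum.le_iff_specializes q Q).1 hQ).mem_open U₁.2 (h (hcov Q hQU hfQ)))
    have hfq : f ∉ q.asIdeal := hstab q le_rfl hqU
    have hnm : ∀ {P : PrimeSpectrum A}, P ∈ U ↔ ¬ maximalIdeal A ≤ P.asIdeal := fun {P} =>
      not_congr (PrimeSpectrum.mem_zeroLocus _ _)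
    have hmax : ∀ (q' : Ideal A), q'.IsPrime → q.asIdeal ≤ q' → f ∉ q' → q' = q.asIdeal := by
      intro q' hq' hle' hfq'
      by_contra hne
      obtain ⟨Q, hQ, hfQ, hQm⟩ := CIPic27.exists_prime_above hf (q := q) (p := ⟨q', hq'⟩)
        (lt_of_le_of_ne hle' (Ne.symm hne)) fun hm => hfq' (hm hf)
      exact hstab Q hQ (hnm.2 hQm) hfQ
    have hgen : ∀ P : PrimeSpectrum A, P.asIdeal < q.asIdeal → ¬ b ≤ P.asIdeal := by
      intro P hP hbP
      obtain ⟨Q, hQ, hfQ, hQm⟩ := CIPic27.exists_prime_above hf hP (hnm.1 hqU)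
      have hP₁ : P ∈ U₁ := ((PrimeSpectrum.le_iff_specializes P Q).1 hQ).mem_open U₁.2 (h (hcov Q (hnm.2 hQm) hfQ))
      rw [hb] at hP₁
      exact hP₁ ((PrimeSpectrum.mem_zeroLocus _ _).2 hbP)
    have hbq : b ≤ q.asIdeal := by
      by_contra hbq
      exact hqU₁ (hb.symm ▸ (fun hz => hbq ((PrimeSpectrum.mem_zeroLocus _ _).1 hz) : q ∈ LocCoh.puncturedOpen A b))
    clear_value b
    subst hb
    obtain ⟨s, hs, htriv⟩ := exists_trivialization b q hbq hgen (h₅ q.asIdeal hfq hmax) M hM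
    let c := b * Ideal.span {s}
    have hc : ∀ P : PrimeSpectrum A, P ∈ LocCoh.puncturedOpen A c ↔
        P ∈ LocCoh.puncturedOpen A b ∧ s ∉ P.asIdeal := fun P => by
      show P ∉ PrimeSpectrum.zeroLocus (c : Set A) ↔ P ∉ PrimeSpectrum.zeroLocus (b : Set A) ∧ _
      rw [PrimeSpectrum.mem_zeroLocus, PrimeSpectrum.mem_zeroLocus, SetLike.coe_subset_coe, SetLike.coe_subset_coe,
        P.isPrime.mul_le, Ideal.span_singleton_le_iff_mem, not_or]
    let V : X.Opens := U ⊓ PrimeSpectrum.basicOpen s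
    have hcU : LocCoh.puncturedOpen A c ≤ LocCoh.puncturedOpen A b := fun P hP => ((hc P).1 hP).1
    obtain ⟨e⟩ := htriv c hcU (Ideal.mul_le_left.trans hbq) (Ideal.mul_le_right.trans Ideal.le_radical)
    obtain ⟨M', hM', ⟨eM'⟩⟩ := exists_glue_triv (LocCoh.puncturedOpen A b) V (LocCoh.puncturedOpen A c) hcU
      (fun P hP => ⟨hle ((hc P).1 hP).1, ((hc P).1 hP).2⟩) (fun P hP => (hc P).2 ⟨hP.1, hP.2.2⟩) M hM e
    exact ih (LocCoh.puncturedOpen A b ⊔ V) (left_lt_sup.2 fun hV => hqU₁ (hV ⟨hqU, hs⟩)) (h.trans le_sup_left)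
      (sup_le hle inf_le_left) ⟨M', hM', nonempty_restrict_trans h le_sup_left M' eM' eM _⟩

/-- Pullback to the punctured hypersurface is surjective on invertible modules. -/
theorem picPullbackSurjective [IsAdicComplete (Ideal.span {f}) A] (hf : f ∈ maximalIdeal A) (hnzd : f ∈ nonZeroDivisors A)
    (h₁ : Module.Finite A (LocCoh.H (maximalIdeal A) 1 (A ⧸ Ideal.span {f})))
    (h₂ : Module.Finite A (LocCoh.H (maximalIdeal A) 2 (A ⧸ Ideal.span {f})))
    (h₃ : Subsingleton (LocCoh.H (maximalIdeal A) 3 (A ⧸ Ideal.span {f})))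
    (h₅ : ∀ (q : Ideal A) [q.IsPrime], f ∉ q → (∀ (q' : Ideal A), q'.IsPrime → q ≤ q' → f ∉ q' → q' = q) →
      Formal2.PicTrivial (↑(FEt.puncturedSpec (Localization.AtPrime q)) : Scheme.{u})) :
    Formal2.PicPullbackSurjective (Formal2.specQuotMap A f ∣_ LocCoh.puncturedOpen A (maximalIdeal A)) := by
  intro L₀ hL₀
  obtain ⟨U', hU', hle, L, hL, ⟨e⟩⟩ := exists_nhd (maximalIdeal A) hnzd h₁ h₂ h₃ L₀ hL₀
  have hcov : ∀ p : PrimeSpectrum A, p ∈ LocCoh.puncturedOpen A (maximalIdeal A) → f ∈ p.asIdeal → p ∈ U' := by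
    intro p hp hfp
    have hr : p ∈ Set.range (PrimeSpectrum.comap (Ideal.Quotient.mk (Ideal.span {f}))) := by
      rw [range_comap_of_surjective _ _ Ideal.Quotient.mk_surjective, Ideal.mk_ker, PrimeSpectrum.zeroLocus_span,
        PrimeSpectrum.mem_zeroLocus, Set.singleton_subset_iff]
      exact hfp
    obtain ⟨z, rfl⟩ := hr
    exact hle (x := z) hp
  obtain ⟨M, hM, ⟨eM⟩⟩ := exists_extension hf h₅ U' hU' hcov L hL
  let g := Formal2.specQuotMap A f
  let j := (Spec (CommRingCat.of A)).homOfLE hU'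
  have hg : g.resLE U' _ hle ≫ j = g ∣_ LocCoh.puncturedOpen A (maximalIdeal A) := by
    rw [← cancel_mono (LocCoh.puncturedOpen A (maximalIdeal A)).ι, Category.assoc, Scheme.homOfLE_ι,
      Scheme.Hom.resLE_comp_ι]
    exact (morphismRestrict_ι _ _).symm
  exact ⟨M, hM, ⟨(Scheme.Modules.pullbackCongr hg.symm).app M ≪≫ ((Scheme.Modules.pullbackComp _ j).app M).symm ≪≫
    (Scheme.Modules.pullback _).mapIso (((Scheme.Modules.restrictFunctorIsoPullback j).app M).symm ≪≫ eM) ≪≫ e⟩⟩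

end Groth.Agent.PicFormalH7
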