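import Groth.Agent.Lib.PicFormalH7.Lift
import Groth.Agent.Lib.PicLift3.Algebraize
import Groth.Agent.Lib.ComplFormalH7.FreeLevels
import Groth.Agent.Lib.NFlatFormalH7.Split

/-!
# Invertible formal modules on the punctured spectrum along a regular element
-/

set_option autoImplicit false
set_option linter.style.haveILetI false
set_option backward.isDefEq.respectTransparency false
set_option backward.isDefEq.respectTransparency.types false

universe u

open CategoryTheory CategoryTheory.Limits AlgebraicGeometry TopologicalSpace Opposite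

noncomputable section

namespace Groth.Agent.PicFormalH7

open Groth.Agent Groth.Agent.GExistH7 Groth.Agent.FormalH7 Groth.Agent.LocCohLib
open Groth.Agent.ComplFormalH7 (PU)

/-- Closed subschemes with the same ideal are isomorphic. -/
theorem exists_iso_of_ker {X Y Y' : Scheme.{u}} (i : Y ⟶ X) (i' : Y' ⟶ X) [IsClosedImmersion i] [IsClosedImmersion i']
    (hk : i.ker = i'.ker) : ∃ t : Y ≅ Y', t.hom ≫ i' = i := by
  let b := IsClosedImmersion.lift i' i hk.ge
  let a := IsClosedImmersion.lift i i' hk.le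
  have hb : b ≫ i' = i := IsClosedImmersion.lift_fac _ _ _
  have ha : a ≫ i = i' := IsClosedImmersion.lift_fac _ _ _
  exact ⟨⟨b, a, by rw [← cancel_mono i, Category.assoc, ha, hb, Category.id_comp],
    by rw [← cancel_mono i', Category.assoc, hb, ha, Category.id_comp]⟩, hb⟩

/-- Preimages of open complements. -/
theorem preimage_puncturedOpen {R S : Type u} [CommRing R] [CommRing S] (q : R →+* S) (I : Ideal R) :
    Spec.map (CommRingCat.ofHom q) ⁻¹ᵁ LocCoh.puncturedOpen R I = LocCoh.puncturedOpen S (I.map q) := by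
  ext p
  show ¬ (I : Set R) ⊆ (Ideal.comap q p.asIdeal) ↔ ¬ (I.map q : Set S) ⊆ p.asIdeal
  exact not_congr Ideal.map_le_iff_le_comap.symm

variable {A : Type u} [CommRing A]

/-- The ideal of a closed subset of an open complement. -/
abbrev idl (I J : Ideal A) : (PU I).IdealSheafData :=
  (FSch.idealSpec A J).comap (PU I ↘ Spec (CommRingCat.of A))

/-- The closed immersion of a quotient into the open complement. -/
abbrev qSpec (I J : Ideal A) :
    (↑(Spec.map (CommRingCat.ofHom (Ideal.Quotient.mk J)) ⁻¹ᵁ LocCoh.puncturedOpen A I) : Scheme.{u}) ⟶ PU I :=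
  Spec.map (CommRingCat.ofHom (Ideal.Quotient.mk J)) ∣_ LocCoh.puncturedOpen A I

variable (I J : Ideal A)

instance isClosedImmersion_qSpec : IsClosedImmersion (qSpec I J) :=
  haveI : IsClosedImmersion (Spec.map (CommRingCat.ofHom (Ideal.Quotient.mk J))) :=
    IsClosedImmersion.spec_of_surjective _ Ideal.Quotient.mk_surjective
  MorphismProperty.of_isPullback (P := @IsClosedImmersion)
    (isPullback_morphismRestrict _ _).flip inferInstance

theorem ker_qSpec_pow (n : ℕ) : (qSpec I (J ^ (n + 1))).ker = idl I J ^ (n + 1) := by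
  haveI : IsClosedImmersion (Spec.map (CommRingCat.ofHom (Ideal.Quotient.mk (J ^ (n + 1))))) :=
    IsClosedImmersion.spec_of_surjective _ Ideal.Quotient.mk_surjective
  rw [ker_restrict, show (Spec.map (CommRingCat.ofHom (Ideal.Quotient.mk (J ^ (n + 1))))).ker =
    FSch.idealSpec A (J ^ (n + 1)) from rfl, FormalH7.idealSpec_pow, BlowUp3.comap_pow]
  rfl

/-- The thickenings are the open complements of the quotients. -/
theorem exists_level (n : ℕ) :
    ∃ t : (FSch.completionAlong (PU I) (idl I J)).X n ≅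
        (↑(Spec.map (CommRingCat.ofHom (Ideal.Quotient.mk (J ^ (n + 1)))) ⁻¹ᵁ LocCoh.puncturedOpen A I) : Scheme.{u}),
      t.hom ≫ qSpec I (J ^ (n + 1)) = FSch.completionToX (PU I) (idl I J) n := by
  haveI : IsClosedImmersion (FSch.completionToX (PU I) (idl I J) n) :=
    inferInstanceAs (IsClosedImmersion (idl I J ^ (n + 1)).subschemeι)
  exact exists_iso_of_ker _ _ ((Scheme.IdealSheafData.ker_subschemeι _).trans (ker_qSpec_pow I J n).symm)

variable [IsNoetherianRing A] {f : A}

/-- The kernel between consecutive quotients by powers of a regular element. -/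
theorem subsingleton_H_ker (hf : f ∈ nonZeroDivisors A) (h₃ : Subsingleton (LocCoh.H I 3 (A ⧸ Ideal.span {f})))
    (n : ℕ) (q : A ⧸ Ideal.span {f} ^ (n + 1 + 1) →+* A ⧸ Ideal.span {f} ^ (n + 1))
    (hq : q.comp (Ideal.Quotient.mk _) = Ideal.Quotient.mk _) :
    Subsingleton (LocCoh.H (I.map (Ideal.Quotient.mk (Ideal.span {f} ^ (n + 1 + 1)))) 3 (RingHom.ker q)) := by
  let S := A ⧸ Ideal.span {f} ^ (n + 1 + 1)
  let π : A →+* S := Ideal.Quotient.mk _
  have hmem : ∀ a : A, π (a * f ^ (n + 1)) ∈ RingHom.ker q := fun a => by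
    rw [RingHom.mem_ker, ← RingHom.comp_apply, hq, Ideal.Quotient.eq_zero_iff_mem, Ideal.span_singleton_pow]
    exact Ideal.mem_span_singleton'.2 ⟨a, rfl⟩
  let g : A →ₗ[A] ↥(RingHom.ker q) :=
    { toFun := fun a => ⟨π (a * f ^ (n + 1)), hmem a⟩
      map_add' := fun a b => Subtype.ext (by simp [add_mul])
      map_smul' := fun c a => Subtype.ext (by
        show π (c • a * f ^ (n + 1)) = c • π (a * f ^ (n + 1))
        rw [smul_eq_mul, mul_assoc, map_mul]
        exact (Algebra.smul_def c _).symm) }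
  have hg : Function.Surjective g := by
    rintro ⟨z, hz⟩
    obtain ⟨a, rfl⟩ := Ideal.Quotient.mk_surjective z
    rw [RingHom.mem_ker, ← RingHom.comp_apply, hq, Ideal.Quotient.eq_zero_iff_mem, Ideal.span_singleton_pow] at hz
    obtain ⟨b, rfl⟩ := Ideal.mem_span_singleton'.1 hz
    exact ⟨b, rfl⟩
  have hk : LinearMap.ker g = Ideal.span {f} := by
    ext a
    rw [LinearMap.mem_ker, ← Subtype.coe_inj]
    show π (a * f ^ (n + 1)) = 0 ↔ _
    rw [Ideal.Quotient.eq_zero_iff_mem, Ideal.span_singleton_pow, Ideal.mem_span_singleton', Ideal.mem_span_singleton']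
    refine ⟨fun ⟨b, hb⟩ => ⟨b, mul_right_cancel₀_of_pow hf hb⟩, fun ⟨b, hb⟩ => ⟨b, by rw [← hb]; ring⟩⟩
  let e : (A ⧸ Ideal.span {f}) ≃ₗ[A] ↥(RingHom.ker q) :=
    (Submodule.quotEquivOfEq _ _ hk.symm).trans (g.quotKerEquivOfSurjective hg)
  obtain ⟨φ, -⟩ := LocCohLib.exists_restrictScalars_addEquiv S I 3 ↥(RingHom.ker q)
  haveI := (hcongr (I := I) 3 e).toEquiv.symm.subsingleton
  exact φ.toEquiv.subsingleton
where
  mul_right_cancel₀_of_pow {a b : A} {k : ℕ} (hf : f ∈ nonZeroDivisors A) (h : b * f ^ (k + 1) = a * f ^ k) :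
      b * f = a := by
    refine (mul_cancel_right_mem_nonZeroDivisors (pow_mem hf k)).1 ?_
    rw [← h, pow_succ]
    ring

variable (hf : f ∈ nonZeroDivisors A) (h₃ : Subsingleton (LocCoh.H I 3 (A ⧸ Ideal.span {f})))
include hf h₃

/-- Invertible modules lift from a thickening to the next. -/
theorem exists_lift_step (n : ℕ) (L : ((FSch.completionAlong (PU I) (idl I (Ideal.span {f}))).X n).Modules)
    (hL : PicF.IsInvertible L) :
    ∃ L' : ((FSch.completionAlong (PU I) (idl I (Ideal.span {f}))).X (n + 1)).Modules, PicF.IsInvertible L' ∧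
      Nonempty ((Scheme.Modules.pullback ((FSch.completionAlong (PU I) (idl I (Ideal.span {f}))).ι n)).obj L' ≅ L) := by
  let J := Ideal.span {f}
  let q : A ⧸ J ^ (n + 1 + 1) →+* A ⧸ J ^ (n + 1) := Ideal.Quotient.factor (Ideal.pow_le_pow_right (Nat.le_succ _))
  have hq : q.comp (Ideal.Quotient.mk _) = Ideal.Quotient.mk _ := Ideal.Quotient.factor_comp_mk _
  have hqs : Function.Surjective q := Ideal.Quotient.factor_surjective _
  have hsq : RingHom.ker q * RingHom.ker q = ⊥ := by
    rw [Ideal.Quotient.factor_ker, ← Ideal.map_mul, ← pow_add, Ideal.map_eq_bot_iff_le_ker, Ideal.mk_ker]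
    exact Ideal.pow_le_pow_right (by omega)
  let a := Spec.map (CommRingCat.ofHom q)
  let b := Spec.map (CommRingCat.ofHom (Ideal.Quotient.mk (J ^ (n + 1 + 1))))
  let c := Spec.map (CommRingCat.ofHom (Ideal.Quotient.mk (J ^ (n + 1))))
  have hab : a ≫ b = c := by
    rw [← Spec.map_comp]
    exact congrArg Spec.map (CommRingCat.hom_ext hq)
  haveI : IsClosedImmersion a := IsClosedImmersion.spec_of_surjective _ hqs
  haveI : IsClosedImmersion b := IsClosedImmersion.spec_of_surjective _ Ideal.Quotient.mk_surjective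
  let U := LocCoh.puncturedOpen A I
  let p := a ∣_ (b ⁻¹ᵁ U)
  haveI : IsClosedImmersion p :=
    MorphismProperty.of_isPullback (P := @IsClosedImmersion) (isPullback_morphismRestrict _ _).flip inferInstance
  let g := qSpec I (J ^ (n + 1 + 1))
  haveI : IsClosedImmersion (p ≫ g) := inferInstance
  haveI : IsClosedImmersion (FSch.completionToX (PU I) (idl I J) n) :=
    inferInstanceAs (IsClosedImmersion (idl I J ^ (n + 1)).subschemeι)
  have hker : (FSch.completionToX (PU I) (idl I J) n).ker = (p ≫ g).ker := by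
    refine (Scheme.IdealSheafData.ker_subschemeι _).trans ((ker_qSpec_pow I J n).symm.trans ?_)
    rw [show p ≫ g = (a ≫ b) ∣_ U from (morphismRestrict_comp a b U).symm]
    rw [ker_restrict (a ≫ b) U, hab]
    exact ker_restrict c U
  obtain ⟨t, ht⟩ := exists_iso_of_ker (FSch.completionToX (PU I) (idl I J) n) (p ≫ g) hker
  obtain ⟨t', ht'⟩ := exists_level I J (n + 1)
  have hw : (FSch.completionAlong (PU I) (idl I J)).ι n ≫ t'.hom = t.hom ≫ p := by
    rw [← cancel_mono g, Category.assoc, Category.assoc, ht', ht]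
    exact FSch.completionToX_comm (PU I) (idl I J) n
  obtain ⟨M, hM, ⟨e⟩⟩ := exists_lift_punct q hqs hsq (I.map (Ideal.Quotient.mk (J ^ (n + 1 + 1))))
    (subsingleton_H_ker I hf h₃ n q hq) (b ⁻¹ᵁ U) (preimage_puncturedOpen _ I)
    ((Scheme.Modules.pullback t.inv).obj L) (PicLoc.isInvertible_pullback t.inv hL)
  exact ⟨(Scheme.Modules.pullback t'.hom).obj M, PicLoc.isInvertible_pullback t'.hom hM,
    ⟨(Scheme.Modules.pullbackComp _ t'.hom).app M ≪≫ (Scheme.Modules.pullbackCongr hw).app M ≪≫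
      ((Scheme.Modules.pullbackComp t.hom p).app M).symm ≪≫ (Scheme.Modules.pullback t.hom).mapIso e ≪≫
      (Scheme.Modules.pullbackComp t.hom t.inv).app L ≪≫ (Scheme.Modules.pullbackCongr t.hom_inv_id).app L ≪≫
      (Scheme.Modules.pullbackId _).app L⟩⟩

/-- Invertible modules lift to the formal completion. -/
theorem exists_modSys (L₀ : ((FSch.completionAlong (PU I) (idl I (Ideal.span {f}))).X 0).Modules)
    (hL₀ : PicF.IsInvertible L₀) :
    ∃ 𝔐 : FSch.ModSys (FSch.completionAlong (PU I) (idl I (Ideal.span {f}))),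
      (∀ n, PicF.IsInvertible (𝔐.F n)) ∧ 𝔐.F 0 = L₀ := by
  choose next hnext he using exists_lift_step I hf h₃
  let L : ∀ n, {M : ((FSch.completionAlong (PU I) (idl I (Ideal.span {f}))).X n).Modules // PicF.IsInvertible M} :=
    fun n => n.rec (motive := fun n =>
      {M : ((FSch.completionAlong (PU I) (idl I (Ideal.span {f}))).X n).Modules // PicF.IsInvertible M})
      ⟨L₀, hL₀⟩ fun k M => ⟨next k M.1 M.2, hnext k M.1 M.2⟩
  exact ⟨⟨fun n => (L n).1, fun n => (he n (L n).1 (L n).2).some⟩, fun n => (L n).2, rfl⟩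

omit hf h₃

/-- The direct images of invertible modules on thickenings are locally free over the thickenings. -/
theorem isFinLocFreeMod_push (n : ℕ) (L : ((FSch.completionAlong (PU I) (idl I (Ideal.span {f}))).X n).Modules)
    (hL : PicF.IsInvertible L) :
    Formal2.IsFinLocFreeMod (Ideal.span {f}) (n + 1)
      ((Scheme.Modules.pushforward (FSch.completionToX (PU I) (idl I (Ideal.span {f})) n)).obj L) := by
  let J := Ideal.span {f}
  let X := PU I
  let 𝓘 := idl I J
  let g := FSch.completionToX X 𝓘 n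
  haveI hg : IsClosedImmersion g := inferInstanceAs (IsClosedImmersion (𝓘 ^ (n + 1)).subschemeι)
  have hform : (FSch.completionAlong X 𝓘).IsFormal := (FormalH7.isFormal_isAdic_completionAlong X 𝓘).1
  haveI := FormalModH7.isIso_cmpLvl J 𝓘 rfl n hform (M1.isCoh_structureModule X)
  obtain ⟨c₀, -⟩ := (isQuot_modPowπ J (n + 1) (FlatMod.freeMod X 1)).exists_iso
    (ComplFormalH7.isQuot_iso_comp (isQuot_modPowπ J (n + 1) (Coh.structureModule X)) (M2.freeModOneIso X))
  let c : Formal.modPow J (n + 1) (FlatMod.freeMod X 1) ≅ (Scheme.Modules.pushforward g).obj (Coh.structureModule _) :=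
    c₀ ≪≫
      asIso (FormalModH7.cmpLvl J 𝓘 rfl n hform (M1.isCoh_structureModule X).1) ≪≫
      (Scheme.Modules.pushforward g).mapIso (Twist.pullbackUnitIso g)
  intro x
  have key : ∀ (V : X.Opens), x ∈ V → Nonempty (L.restrict (g ⁻¹ᵁ V).ι ≅
      (Coh.structureModule _ : ((FSch.completionAlong X 𝓘).X n).Modules).restrict (g ⁻¹ᵁ V).ι) →
      ∃ (V : X.Opens) (r : ℕ), x ∈ V ∧
        Nonempty ((Scheme.Modules.restrictFunctor V.ι).obj ((Scheme.Modules.pushforward g).obj L) ≅
          (Scheme.Modules.restrictFunctor V.ι).obj (Formal.modPow J (n + 1) (FlatMod.freeMod X r))) := by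
    intro V hV ⟨e⟩
    exact ⟨V, 1, hV, ⟨M1.pushRestrictIso (isPullback_morphismRestrict g V) L ≪≫
      (Scheme.Modules.pushforward (g ∣_ V)).mapIso e ≪≫
      (M1.pushRestrictIso (isPullback_morphismRestrict g V) _).symm ≪≫
      (Scheme.Modules.restrictFunctor V.ι).mapIso c.symm⟩⟩
  by_cases hx : x ∈ Set.range g
  · obtain ⟨z, rfl⟩ := hx
    obtain ⟨W, hzW, ⟨eW⟩⟩ := hL z
    obtain ⟨V, hV, hVW⟩ := hg.isClosedEmbedding.isEmbedding.isInducing.isOpen_iff.1 W.isOpen
    have hVW' : g ⁻¹ᵁ ⟨V, hV⟩ = W := TopologicalSpace.Opens.ext hVW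
    refine key ⟨V, hV⟩ (show g z ∈ V from hVW.ge hzW) ?_
    rw [hVW']
    exact ⟨eW ≪≫ (Scheme.Modules.restrictUnitIso W.ι).symm⟩
  · let V : X.Opens := ⟨(Set.range g)ᶜ, hg.isClosedEmbedding.isClosed_range.isOpen_compl⟩
    refine key V hx ?_
    have hemp : IsEmpty (↑(g ⁻¹ᵁ V) : Scheme.{u}) := ⟨fun y => y.2 ⟨y.1, rfl⟩⟩
    have h0 : ∀ M : (↑(g ⁻¹ᵁ V) : Scheme.{u}).Modules, IsZero M := fun M =>
      (IsZero.iff_id_eq_zero M).2 (NFlatFormalH7.eq_zero_of_stalk _ fun y _ => (hemp.false y).elim)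
    exact ⟨(h0 _).iso (h0 _)⟩

end Groth.Agent.PicFormalH7
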