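import Groth.Agent.Lib.CIPic27.Lift
import Groth.Agent.Lib.Omega12.Affine
import Groth.Agent.Lib.LocCoh.Restrict
import Groth.Agent.Lib.ModLimH13.Hom1
import Groth.Prelude.Def_Formal2

/-!
# Lifting invertible modules on punctured spectra along square zero surjections
-/

set_option autoImplicit false
set_option linter.style.haveILetI false
set_option backward.isDefEq.respectTransparency false

universe u

open CategoryTheory CategoryTheory.Limits AlgebraicGeometry TopologicalSpace Opposite IsLocalRing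

noncomputable section

namespace Groth.Agent.PicFormalH7

open Groth.Agent Groth.Agent.LocCohLib Groth.Agent.LocCohSheafLib

/-- The kernel of a restricted closed immersion. -/
theorem ker_restrict {X Y : Scheme.{u}} (f : Y ⟶ X) [IsClosedImmersion f] (U : X.Opens) :
    (f ∣_ U).ker = f.ker.comap U.ι := by
  let e := (isPullback_morphismRestrict f U).isoPullback
  rw [← Scheme.IdealSheafData.ker_fst_of_isClosedImmersion, ← Scheme.Hom.ker_comp_of_isIso e.hom,
    IsPullback.isoPullback_hom_fst]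

/-- The ideal module of a restricted closed immersion is the restriction of the ideal module. -/
theorem nonempty_idealMod_restrict {X Y : Scheme.{u}} (f : Y ⟶ X) [IsClosedImmersion f] (U : X.Opens) :
    Nonempty ((ClSub.idealMod f.ker).restrict U.ι ≅ ClSub.idealMod (f ∣_ U).ker) := by
  let I := f.ker
  let K := (f ∣_ U).ker
  let G := (ClSub.idealMod I).restrict U.ι
  let φ : G ⟶ Coh.structureModule (U : Scheme.{u}) :=
    (Scheme.Modules.restrictFunctor U.ι).map (ClSub.idealModι I) ≫ (Scheme.Modules.restrictUnitIso U.ι).hom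
  let σ : ∀ W : (U : Scheme.{u}).Opens, Γ(G, W) → Γ(ClSub.idealMod I, U.ι ''ᵁ W) := fun W s =>
    ((ClSub.idealMod I).restrictAppIso U.ι W).hom s
  have hφ : ∀ (W : (U : Scheme.{u}).Opens) (s : Γ(G, W)),
      φ.app W s = (U.ι.appIso W).hom (M2.idealIncl I (σ W s)) := fun W s => rfl
  have hK : ∀ (W : (U : Scheme.{u}).affineOpens) (z : Γ(X, U.ι ''ᵁ W.1)),
      (U.ι.appIso W.1).hom z ∈ K.ideal W ↔ z ∈ I.ideal ⟨U.ι ''ᵁ W.1, W.2.image_of_isOpenImmersion _⟩ := by
    intro W z
    rw [show K.ideal W = I.ideal ⟨U.ι ''ᵁ W.1, W.2.image_of_isOpenImmersion _⟩ from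
      Scheme.ker_morphismRestrict_ideal f U W, Scheme.Opens.ι_appIso]
    rfl
  have hmem : ∀ (W : (U : Scheme.{u}).affineOpens) (s : Γ(G, W.1)),
      φ.app W.1 s ∈ K.ideal W := fun W s => by
    rw [hφ]
    exact (hK W _).2 ((M2.range_idealIncl I ⟨U.ι ''ᵁ W.1, W.2.image_of_isOpenImmersion _⟩).le ⟨_, rfl⟩)
  have h0 : φ ≫ ClSub.toSubscheme K = 0 := by
    refine ModLimH13.hom_ext_affine _ _ fun x => ⟨⊤, trivial, fun W _ hW s => ?_⟩
    have h := hmem ⟨W, hW⟩ s
    rw [← K.ker_subschemeι, Scheme.Hom.ker_apply] at h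
    have h' : K.subschemeι.app W (φ.app W s) = 0 := RingHom.mem_ker.1 h
    exact h'
  let ψ : G ⟶ ClSub.idealMod K := kernel.lift _ φ h0
  have hψ : ∀ (W : (U : Scheme.{u}).Opens) (s : Γ(G, W)), M2.idealIncl K (ψ.app W s) = φ.app W s := fun W s =>
    congrArg (fun χ : G ⟶ _ => χ.app W s) (kernel.lift_ι _ φ h0)
  haveI hb : ∀ W : (U : Scheme.{u}).affineOpens, Function.Bijective (ψ.app W.1) := by
    intro W
    refine ⟨fun s t hst => ?_, fun t => ?_⟩
    · have h := congrArg (M2.idealIncl K) hst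
      rw [hψ, hψ, hφ, hφ] at h
      exact ((ClSub.idealMod I).restrictAppIso U.ι W.1).addCommGroupIsoToAddEquiv.injective
        (M2.idealIncl_injective I _ ((U.ι.appIso W.1).commRingCatIsoToRingEquiv.injective h))
    · have ht : M2.idealIncl K t ∈ K.ideal W := (M2.range_idealIncl K W).le ⟨t, rfl⟩
      obtain ⟨z, hz⟩ := (U.ι.appIso W.1).commRingCatIsoToRingEquiv.surjective (M2.idealIncl K t)
      obtain ⟨a, ha⟩ := (M2.range_idealIncl I ⟨U.ι ''ᵁ W.1, W.2.image_of_isOpenImmersion _⟩).ge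
        ((hK W z).1 (show (U.ι.appIso W.1).hom z ∈ K.ideal W from hz ▸ ht))
      refine ⟨((ClSub.idealMod I).restrictAppIso U.ι W.1).inv a, M2.idealIncl_injective K _ ?_⟩
      rw [hψ, hφ, show σ W.1 (((ClSub.idealMod I).restrictAppIso U.ι W.1).inv a) = a from Iso.inv_hom_id_apply _ a, ha]
      exact hz
  haveI : Mono ψ := M1.mono_of_basis ψ _ (U : Scheme.{u}).isBasis_affineOpens fun W hW => (hb ⟨W, hW⟩).1
  haveI : Epi ψ := (M1.epi_iff_locally_surjective _).mpr fun V t x hx => by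
    obtain ⟨W, hW, hxW, hWV⟩ := exists_isAffineOpen_mem_and_subset hx
    obtain ⟨s, hs⟩ := (hb ⟨W, hW⟩).2 ((ClSub.idealMod K).presheaf.map (homOfLE hWV).op t)
    exact ⟨W, hWV, hxW, s, hs⟩
  haveI : IsIso ψ := isIso_of_mono_of_epi ψ
  exact ⟨asIso ψ⟩

variable {S S₀ : Type u} [CommRing S] [CommRing S₀] [IsNoetherianRing S]

/-- `H²` of the ideal of a quotient on an open complement. -/
theorem subsingleton_HH_idealMod_punct (q : S →+* S₀) (hq : Function.Surjective q) (a : Ideal S)
    (h : Subsingleton (LocCoh.H a 3 (RingHom.ker q))) :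
    Subsingleton (Coh.HH (↑(LocCoh.puncturedOpen S a) : Scheme.{u})
      (ClSub.idealMod (Spec.map (CommRingCat.ofHom q) ∣_ LocCoh.puncturedOpen S a).ker) 2) := by
  haveI : IsClosedImmersion (Spec.map (CommRingCat.ofHom q)) := IsClosedImmersion.spec_of_surjective _ hq
  let U := LocCoh.puncturedOpen S a
  obtain ⟨e₁⟩ := nonempty_idealMod_restrict (Spec.map (CommRingCat.ofHom q)) U
  obtain ⟨e₂⟩ := Omega12.nonempty_idealMod_iso (CommRingCat.ofHom q) (𝟙 (Spec (CommRingCat.of S)))
  have e₃ : ClSub.idealMod (Spec.map (CommRingCat.ofHom q)).ker ≅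
      tilde (R := CommRingCat.of S) (ModuleCat.of S (RingHom.ker q)) := by
    rw [Category.comp_id] at e₂
    exact ((Scheme.Modules.pullbackId _).app _).symm ≪≫ e₂
  obtain ⟨e⟩ := nonempty_HH_punct_equiv a 1 (RingHom.ker q)
  haveI : Subsingleton (LocCoh.H a (1 + 2) (RingHom.ker q)) := h
  haveI := e.toEquiv.subsingleton
  exact (CurveCoh17.hequiv S (e₁.symm ≪≫ (Scheme.Modules.restrictFunctor U.ι).mapIso e₃) (1 + 1)).toEquiv.subsingleton

attribute [local instance] M2.law in
/-- Invertible modules on an open complement lift along a square zero surjection. -/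
theorem exists_lift_punct (q : S →+* S₀) (hq : Function.Surjective q) (hsq : RingHom.ker q * RingHom.ker q = ⊥)
    (a : Ideal S) (h : Subsingleton (LocCoh.H a 3 (RingHom.ker q))) (U : (Spec (CommRingCat.of S)).Opens)
    (hU : U = LocCoh.puncturedOpen S a) :
    Formal2.PicPullbackSurjective (Spec.map (CommRingCat.ofHom q) ∣_ U) := by
  subst hU
  haveI : IsClosedImmersion (Spec.map (CommRingCat.ofHom q)) := IsClosedImmersion.spec_of_surjective _ hq
  intro L₀ hL₀
  let p := Spec.map (CommRingCat.ofHom q) ∣_ LocCoh.puncturedOpen S a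
  have hI : p.ker * p.ker = ⊥ := CIPic27.ker_sq_eq_bot q hq hsq _
  haveI := subsingleton_HH_idealMod_punct q hq a h
  let t := asIso p.toImage
  have hL₀' := PicLoc.isInvertible_pullback t.inv hL₀
  have hi : PicGrp.PullMul p.ker.subschemeι := M2.pullMul _
  obtain ⟨d, hd⟩ := (PicH1_21.δ₁Add_eq_zero_iff hI hi (PicGrp.cls _ hL₀')).1 (Subsingleton.elim _ _)
  obtain ⟨L, hL, rfl⟩ := PicGrp.exists_eq_cls d
  rw [PicGrp.pullHom_cls] at hd
  obtain ⟨e⟩ := (PicGrp.cls_eq_cls_iff _ _).1 hd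
  exact ⟨L, hL, ⟨(Scheme.Modules.pullbackCongr p.toImage_imageι.symm).app L ≪≫
    ((Scheme.Modules.pullbackComp t.hom p.ker.subschemeι).app L).symm ≪≫
    (Scheme.Modules.pullback t.hom).mapIso e ≪≫ (Scheme.Modules.pullbackComp t.hom t.inv).app L₀ ≪≫
    (Scheme.Modules.pullbackCongr t.hom_inv_id).app L₀ ≪≫ (Scheme.Modules.pullbackId _).app L₀⟩⟩

end Groth.Agent.PicFormalH7
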